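import Groth.Agent.L03.ShStab.Filtrations
import Groth.Agent.L11.Slope.Main
import Groth.Agent.L11.NumOrth.TauProj
import Groth.Prelude.Def_W4c2simpsonmod1HP

/-!
# Harder–Narasimhan chains as finite sets of submodules
-/

set_option autoImplicit false
set_option backward.isDefEq.respectTransparency false
set_option linter.style.haveILetI false
set_option linter.unusedSectionVars false

universe u

open CategoryTheory CategoryTheory.Limits AlgebraicGeometry Polynomial

noncomputable section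

namespace Groth.L11.HN

section Order

variable {α : Type*} [PartialOrder α]

/-- The underlying finite set of a series. -/
def toSet (s : LTSeries α) : Finset α := by
  classical exact Finset.univ.image s.toFun

theorem mem_toSet {s : LTSeries α} {a : α} : a ∈ toSet s ↔ ∃ i, s.toFun i = a := by
  simp [toSet]

theorem step_covered (s : LTSeries α) (i : Fin s.length) :
    ∀ D ∈ toSet s, ¬ (s.toFun i.castSucc < D ∧ D < s.toFun i.succ) := by
  intro D hD h
  obtain ⟨j, rfl⟩ := mem_toSet.1 hD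
  have h1 := s.strictMono.lt_iff_lt.1 h.1
  have h2 := s.strictMono.lt_iff_lt.1 h.2
  simp only [Fin.lt_def, Fin.val_castSucc, Fin.val_succ] at h1 h2
  omega

theorem exists_step {s : LTSeries α} {A B : α} (hA : A ∈ toSet s) (hB : B ∈ toSet s) (hAB : A < B)
    (hcov : ∀ D ∈ toSet s, ¬ (A < D ∧ D < B)) :
    ∃ i : Fin s.length, A = s.toFun i.castSucc ∧ B = s.toFun i.succ := by
  obtain ⟨a, rfl⟩ := mem_toSet.1 hA
  obtain ⟨b, rfl⟩ := mem_toSet.1 hB
  have hab := s.strictMono.lt_iff_lt.1 hAB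
  simp only [Fin.lt_def] at hab
  have ha : a.val < s.length := by omega
  refine ⟨⟨a.val, ha⟩, rfl, ?_⟩
  by_contra hne
  have hne' : b.val ≠ a.val + 1 := fun h => hne (congrArg s.toFun (Fin.ext h))
  refine hcov _ (mem_toSet.2 ⟨⟨a.val + 1, by omega⟩, rfl⟩) ⟨s.strictMono ?_, s.strictMono ?_⟩ <;>
    simp only [Fin.lt_def] <;> omega

theorem isChain_toSet (s : LTSeries α) : IsChain (fun A B : α => A ≤ B) (↑(toSet s) : Set α) := by
  intro A hA B hB _
  obtain ⟨i, rfl⟩ := mem_toSet.1 hA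
  obtain ⟨j, rfl⟩ := mem_toSet.1 hB
  rcases le_total i j with h | h
  · exact Or.inl (s.strictMono.monotone h)
  · exact Or.inr (s.strictMono.monotone h)

theorem exists_series [OrderBot α] [OrderTop α] {C : Finset α}
    (hC : IsChain (fun A B : α => A ≤ B) (↑C : Set α)) (hb : ⊥ ∈ C) (ht : ⊤ ∈ C) :
    ∃ s : LTSeries α, toSet s = C ∧ s.head = ⊥ ∧ s.last = ⊤ := by
  classical
  letI : LinearOrder {x // x ∈ C} :=
    { (inferInstance : PartialOrder {x // x ∈ C}) with
      le_total := fun a b => by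
        rcases eq_or_ne a b with h | h
        · exact Or.inl (h ▸ le_rfl)
        · exact hC a.2 b.2 fun e => h (Subtype.ext e)
      toDecidableLE := Classical.decRel _ }
  have hc : (Finset.univ : Finset {x // x ∈ C}).card = C.card := by simp
  have hpos : 0 < C.card := Finset.card_pos.2 ⟨⊥, hb⟩
  let e := Finset.orderEmbOfFin Finset.univ hc
  let s : LTSeries α := ⟨C.card - 1, fun i => (e ⟨i.val, by omega⟩).1, fun i => by
    show (e _).1 < (e _).1
    exact e.strictMono (by simp [Fin.lt_def])⟩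
  have hm : ∀ a, a ∈ toSet s ↔ a ∈ C := by
    intro a
    rw [mem_toSet]
    refine ⟨?_, fun ha => ?_⟩
    · rintro ⟨i, rfl⟩
      exact (e _).2
    · have : (⟨a, ha⟩ : {x // x ∈ C}) ∈ Set.range e := by
        rw [Finset.range_orderEmbOfFin]; simp
      obtain ⟨j, hj⟩ := this
      exact ⟨⟨j.val, by show j.val < C.card - 1 + 1; omega⟩, congrArg Subtype.val hj⟩
  refine ⟨s, Finset.ext hm, ?_, ?_⟩
  · obtain ⟨i, hi⟩ := mem_toSet.1 ((hm ⊥).2 hb)
    exact le_bot_iff.1 (hi ▸ s.strictMono.monotone (Fin.zero_le i))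
  · obtain ⟨i, hi⟩ := mem_toSet.1 ((hm ⊤).2 ht)
    exact top_le_iff.1 (hi ▸ s.strictMono.monotone (Fin.le_last i))

end Order

section Poly

/-- Divided and cross-multiplied comparisons agree for positive multiplicities. -/
theorem redLE_iff {d : ℕ} {p q : ℚ[X]} (hp : 0 < StabCat.alpha d p) (hq : 0 < StabCat.alpha d q) :
    W4c2simpsonmod1.RedLE d p q ↔ StabCat.RedLE d p q := by
  constructor
  · rintro ⟨N, hN⟩
    refine ⟨N.toNat, fun m hm => ?_⟩
    have h := hN (m : ℤ) (by omega)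
    simp only [Int.cast_natCast] at h
    rw [show W4c2simpsonmod1.rankOf d p = StabCat.alpha d p from rfl,
      show W4c2simpsonmod1.rankOf d q = StabCat.alpha d q from rfl, div_le_div_iff₀ hp hq] at h
    simp only [eval_smul, smul_eq_mul]
    linarith
  · rintro ⟨N, hN⟩
    refine ⟨(N : ℤ), fun m hm => ?_⟩
    obtain ⟨m, rfl⟩ := Int.eq_ofNat_of_zero_le (show (0 : ℤ) ≤ m by omega)
    have h := hN m (by omega)
    simp only [eval_smul, smul_eq_mul] at h
    rw [show W4c2simpsonmod1.rankOf d p = StabCat.alpha d p from rfl,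
      show W4c2simpsonmod1.rankOf d q = StabCat.alpha d q from rfl, div_le_div_iff₀ hp hq]
    simp only [Int.cast_natCast]
    linarith

theorem redLT_iff {d : ℕ} {p q : ℚ[X]} (hp : 0 < StabCat.alpha d p) (hq : 0 < StabCat.alpha d q) :
    W4c2simpsonmod1.RedLT d p q ↔ StabCat.RedLT d p q := by
  constructor
  · rintro ⟨N, hN⟩
    refine ⟨N.toNat, fun m hm => ?_⟩
    have h := hN (m : ℤ) (by omega)
    simp only [Int.cast_natCast] at h
    rw [show W4c2simpsonmod1.rankOf d p = StabCat.alpha d p from rfl,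
      show W4c2simpsonmod1.rankOf d q = StabCat.alpha d q from rfl, div_lt_div_iff₀ hp hq] at h
    simp only [eval_smul, smul_eq_mul]
    linarith
  · rintro ⟨N, hN⟩
    refine ⟨(N : ℤ), fun m hm => ?_⟩
    obtain ⟨m, rfl⟩ := Int.eq_ofNat_of_zero_le (show (0 : ℤ) ≤ m by omega)
    have h := hN m (by omega)
    simp only [eval_smul, smul_eq_mul] at h
    rw [show W4c2simpsonmod1.rankOf d p = StabCat.alpha d p from rfl,
      show W4c2simpsonmod1.rankOf d q = StabCat.alpha d q from rfl, div_lt_div_iff₀ hp hq]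
    simp only [Int.cast_natCast]
    linarith

end Poly

section Sheaf

variable {k : Type u} [Field k] {n : ℕ}

open Groth.L22.Reg (O' tw')

/-- A module all whose integral twists have Euler characteristic given by a polynomial. -/
def IsZPoly (M : (CohB1.ProjSpace n k).Modules) (P : ℚ[X]) : Prop :=
  ∀ m : ℤ, (Curv2.euler k (CohB1.ProjSpace n k) (CohB1.tensorMod M (Twist.twistProjSpace n k m)) : ℚ) = P.eval (m : ℚ)

theorem isAmple_O : CohB1.IsAmple (O' n k 1) := by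
  obtain ⟨ε⟩ : Nonempty (Groth.L18.PUP.O1 n k ≅ Twist.twistProjSpace n k 1) := ⟨Iso.refl _⟩
  exact Groth.L18.Ample.isAmple_of_iso ε (Groth.L22.VeryAmple.isAmple_O1 n k)

theorem isZPoly_iff {M : (CohB1.ProjSpace n k).Modules} (hM : Coh.IsCoh M) {P : ℚ[X]} :
    IsZPoly M P ↔ ShStab.IsHilbPoly k (CohB1.ProjSpace n k) (O' n k 1) M P := by
  refine ⟨fun h => Groth.L11.Slope.isHilbPoly_O1 h, fun h => ?_⟩
  haveI := Groth.L22.Reg.isProper_over_proj (k := k) (n := n)
  obtain ⟨φ, hφ⟩ := Groth.L11.NumOrth.exists_poly_twist k (𝟙 (CohB1.ProjSpace n k)) hM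
  have h' : IsZPoly M φ := fun m => by
    rw [← hφ m]
    exact congrArg (Int.cast : ℤ → ℚ) (Groth.L03.Euler.euler_iso
      (Groth.L00.Tensor.tensorIso (Iso.refl M) ((Scheme.Modules.pullbackId (CohB1.ProjSpace n k)).app _).symm))
  rwa [Groth.L03.Euler.isHilbPoly_unique h (Groth.L11.Slope.isHilbPoly_O1 h')]

/-- Purity of dimension `d`, spelled out. -/
def IsPureZ (M : (CohB1.ProjSpace n k).Modules) (d : ℕ) : Prop :=
  topologicalKrullDim ↥(CohB1.support M) = (d : WithBot ℕ∞) ∧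
    ∀ (G : (CohB1.ProjSpace n k).Modules) (ι : G ⟶ M), Mono ι → Coh.IsCoh G → ¬ IsZero G →
      topologicalKrullDim ↥(CohB1.support G) = (d : WithBot ℕ∞)

/-- Semistability, spelled out. -/
def IsSSZ (M : (CohB1.ProjSpace n k).Modules) (d : ℕ) : Prop :=
  ∀ (G : (CohB1.ProjSpace n k).Modules) (ι : G ⟶ M), Mono ι → Coh.IsCoh G → ¬ IsZero G →
    ∀ φ ψ : Polynomial ℚ, IsZPoly M φ → IsZPoly G ψ → W4c2simpsonmod1.RedLE d ψ φ

theorem isSemistable_iff {M : (CohB1.ProjSpace n k).Modules} (hM : Coh.IsCoh M) (d : ℕ) :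
    ShStab.IsSemistable k (CohB1.ProjSpace n k) (O' n k 1) M d ↔ (IsPureZ M d ∧ IsSSZ M d) := by
  haveI := Groth.L22.Reg.isProper_over_proj (k := k) (n := n)
  constructor
  · rintro ⟨-, h0, hp, hss⟩
    refine ⟨⟨hp M (𝟙 M) inferInstance hM h0, hp⟩, fun G ι hι hG hG0 φ ψ hφ hψ => ?_⟩
    haveI := hι
    have hφ' := (isZPoly_iff hM).1 hφ
    have hψ' := (isZPoly_iff hG).1 hψ
    have hq := Groth.L03.ShStab.Basic.alpha_pos isAmple_O hM (hp M (𝟙 M) inferInstance hM h0) hφ'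
    have hp' := Groth.L03.ShStab.Basic.alpha_pos isAmple_O hG (hp G ι hι hG hG0) hψ'
    rw [redLE_iff hp' hq]
    by_cases hi : IsIso ι
    · rw [Groth.L03.Euler.isHilbPoly_unique (Groth.L03.Euler.isHilbPoly_iso (asIso ι) hψ') hφ']
      exact ⟨0, fun m _ => le_rfl⟩
    · exact hss G ι hι hG hG0 hi ψ φ hψ' hφ'
  · rintro ⟨⟨hd, hp⟩, hss⟩
    have h0 : ¬ IsZero M := fun h => by
      rw [Groth.L03.Euler.topologicalKrullDim_of_empty ((Groth.L21.Mod.isZero_iff_support_eq_empty M).1 h)] at hd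
      simp at hd
    refine ⟨hM, h0, hp, fun F ι hι hF hF0 _ pF pE hpF hpE => ?_⟩
    haveI := hι
    have hq := Groth.L03.ShStab.Basic.alpha_pos isAmple_O hM hd hpE
    have hp' := Groth.L03.ShStab.Basic.alpha_pos isAmple_O hF (hp F ι hι hF hF0) hpF
    exact (redLE_iff hp' hq).1 (hss F ι hι hF hF0 pE pF ((isZPoly_iff hM).2 hpE) ((isZPoly_iff hF).2 hpF))

/-- A finite chain which is a Harder–Narasimhan filtration. -/
def IsHNChain (d : ℕ) {E : (CohB1.ProjSpace n k).Modules} (C : Finset (Subobject E)) : Prop :=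
  ⊥ ∈ C ∧ ⊤ ∈ C ∧ IsChain (fun A B : Subobject E => A ≤ B) (↑C : Set (Subobject E)) ∧
  (∀ A ∈ C, Coh.IsCoh (A : (CohB1.ProjSpace n k).Modules)) ∧
  (∀ A ∈ C, ∀ B ∈ C, ∀ hAB : A < B, (∀ D ∈ C, ¬ (A < D ∧ D < B)) →
    IsPureZ (cokernel (Subobject.ofLE A B hAB.le)) d ∧ IsSSZ (cokernel (Subobject.ofLE A B hAB.le)) d) ∧
  (∀ A ∈ C, ∀ B ∈ C, ∀ B' ∈ C, ∀ hAB : A < B, ∀ hBB : B < B',
    (∀ D ∈ C, ¬ (A < D ∧ D < B)) → (∀ D ∈ C, ¬ (B < D ∧ D < B')) →
    ∀ ψ ψ' : Polynomial ℚ, IsZPoly (cokernel (Subobject.ofLE A B hAB.le)) ψ →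
      IsZPoly (cokernel (Subobject.ofLE B B' hBB.le)) ψ' → W4c2simpsonmod1.RedLT d ψ' ψ)

theorem existsUnique_chain (d : ℕ) (E : (CohB1.ProjSpace n k).Modules) (hE : Coh.IsCoh E)
    (hpure : IsPureZ E d) : ∃! C : Finset (Subobject E), IsHNChain d C := by
  haveI := Groth.L22.Reg.isProper_over_proj (k := k) (n := n)
  haveI : AlgebraicGeometry.IsNoetherian (CohB1.ProjSpace n k) := Groth.L11.Slope.noetherian_proj
  have hL : CohB1.IsAmple (O' n k 1) := isAmple_O
  obtain ⟨s, hs, huniq⟩ := Groth.L03.ShStab.Filt.existsUnique_isHNFiltration (k := k) hL hE hpure.2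
  have hcoh := Groth.L03.ShStab.Filt.isCoh_of_factors hs.1 fun i => (hs.2.2.1 i).1
  refine ⟨toSet s, ⟨mem_toSet.2 ⟨0, hs.1⟩, mem_toSet.2 ⟨Fin.last _, hs.2.1⟩, isChain_toSet s, ?_, ?_, ?_⟩, ?_⟩
  · intro A hA
    obtain ⟨i, rfl⟩ := mem_toSet.1 hA
    exact hcoh i
  · intro A hA B hB hAB hcov
    obtain ⟨i, rfl, rfl⟩ := exists_step hA hB hAB hcov
    exact (isSemistable_iff (hs.2.2.1 i).1 d).1 (hs.2.2.1 i)
  · intro A hA B hB B' hB' hAB hBB hc1 hc2 ψ ψ' hψ hψ'
    obtain ⟨i, rfl, rfl⟩ := exists_step hA hB hAB hc1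
    obtain ⟨j, hij, rfl⟩ := exists_step hB hB' hBB hc2
    have hval : i.val + 1 = j.val := by
      have := congrArg Fin.val (s.strictMono.injective hij)
      simpa using this
    have hi := (isZPoly_iff (hs.2.2.1 i).1).1 hψ
    have hψ'' : IsZPoly (StabCat.factor s j) ψ' := by
      have e : ∀ (A : Subobject E) (h : A ≤ s.toFun j.succ), A = s.toFun j.castSucc →
          IsZPoly (cokernel (Subobject.ofLE A (s.toFun j.succ) h)) ψ' → IsZPoly (StabCat.factor s j) ψ' := by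
        rintro A h rfl hh
        exact hh
      exact e _ hBB.le hij hψ'
    have hj := (isZPoly_iff (hs.2.2.1 j).1).1 hψ''
    have hjS := (isSemistable_iff (hs.2.2.1 j).1 d).1 (hs.2.2.1 j)
    have hiS := (isSemistable_iff (hs.2.2.1 i).1 d).1 (hs.2.2.1 i)
    exact (redLT_iff (Groth.L03.ShStab.Basic.alpha_pos hL (hs.2.2.1 j).1 hjS.1.1 hj)
      (Groth.L03.ShStab.Basic.alpha_pos hL (hs.2.2.1 i).1 hiS.1.1 hi)).2 (hs.2.2.2 i j hval ψ ψ' hi hj)
  · rintro C ⟨hb, ht, hch, hC, hfac, hdec⟩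
    obtain ⟨t, rfl, ht0, ht1⟩ := exists_series hch hb ht
    refine congrArg toSet (huniq t ⟨ht0, ht1, fun i => ?_, fun i j hij p q hp hq => ?_⟩)
    · have h := hfac _ (mem_toSet.2 ⟨i.castSucc, rfl⟩) _ (mem_toSet.2 ⟨i.succ, rfl⟩) (t.step i) (step_covered t i)
      exact (isSemistable_iff (Groth.L03.ShStab.Bridge.isCoh_qt (le_of_lt (t.step i))
        (hC _ (mem_toSet.2 ⟨i.castSucc, rfl⟩)) (hC _ (mem_toSet.2 ⟨i.succ, rfl⟩))) d).2 h
    · have hi := hfac _ (mem_toSet.2 ⟨i.castSucc, rfl⟩) _ (mem_toSet.2 ⟨i.succ, rfl⟩) (t.step i) (step_covered t i)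
      have hj := hfac _ (mem_toSet.2 ⟨j.castSucc, rfl⟩) _ (mem_toSet.2 ⟨j.succ, rfl⟩) (t.step j) (step_covered t j)
      have ci := Groth.L03.ShStab.Bridge.isCoh_qt (le_of_lt (t.step i))
        (hC _ (mem_toSet.2 ⟨i.castSucc, rfl⟩)) (hC _ (mem_toSet.2 ⟨i.succ, rfl⟩))
      have cj := Groth.L03.ShStab.Bridge.isCoh_qt (le_of_lt (t.step j))
        (hC _ (mem_toSet.2 ⟨j.castSucc, rfl⟩)) (hC _ (mem_toSet.2 ⟨j.succ, rfl⟩))
      have hp' := (isZPoly_iff ci).2 hp
      have hq' := (isZPoly_iff cj).2 hq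
      have hmid : i.succ = j.castSucc := Fin.ext (by simpa using hij)
      have key : W4c2simpsonmod1.RedLT d q p := by
        have h2 : t.toFun i.succ < t.toFun j.succ := by rw [hmid]; exact t.step j
        refine hdec _ (mem_toSet.2 ⟨i.castSucc, rfl⟩) _ (mem_toSet.2 ⟨i.succ, rfl⟩) _ (mem_toSet.2 ⟨j.succ, rfl⟩)
          (t.step i) h2 (step_covered t i) (by rw [hmid]; exact step_covered t j) p q hp' ?_
        have e' : ∀ (A : Subobject E) (h : A ≤ t.toFun j.succ), A = t.toFun j.castSucc →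
            IsZPoly (cokernel (Subobject.ofLE A (t.toFun j.succ) h)) q := by
          rintro A h rfl
          exact hq'
        exact e' _ h2.le (congrArg t.toFun hmid)
      exact (redLT_iff (Groth.L03.ShStab.Basic.alpha_pos hL cj hj.1.1 hq)
        (Groth.L03.ShStab.Basic.alpha_pos hL ci hi.1.1 hp)).1 key

end Sheaf

end Groth.L11.HN
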